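import Groth.Agent.FormalProLib.Quot
import Groth.Agent.FormalLimVanishLib.Main
import Groth.Agent.QCohLib.SerreCrit
import Mathlib.CategoryTheory.Abelian.Refinements

/-!
# Systems `M / f^n M` for a principal ideal
-/

set_option autoImplicit false
set_option linter.unusedSectionVars false

universe u

open CategoryTheory CategoryTheory.Limits AlgebraicGeometry Opposite TopologicalSpace

noncomputable section

namespace FormalPrincLib

open FormalProLib (smulMod_natural smulFamily_comp annHom)
open FormalLib (smulMod_mul smulMod_modPowπ)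

variable {A : Type u} [CommRing A] {X : Scheme.{u}} [X.Over (Spec (CommRingCat.of A))] (f : A)

/-- The principal ideal. -/
abbrev pid {A : Type u} [CommRing A] (a : A) : Ideal A := Ideal.span ({a} : Set A)

lemma pow_mem_pow (n : ℕ) : f ^ n ∈ (pid f) ^ n := Ideal.pow_mem_pow (Ideal.mem_span_singleton_self f) n

lemma smulFamily_comp_of_gen {M T : X.Modules} (g : M ⟶ T) (n : ℕ) (h : Formal.smulMod A M (f ^ n) ≫ g = 0) :
    Formal.smulFamily ((pid f) ^ n) M ≫ g = 0 :=
  smulFamily_comp g (Ideal.span_singleton_pow f n ▸ (Ideal.span_singleton_le_iff_mem _).2 h)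

lemma smulMod_π (M : X.Modules) (n : ℕ) : Formal.smulMod A M (f ^ n) ≫ Formal.modPowπ (pid f) n M = 0 :=
  smulMod_modPowπ M _ n (pow_mem_pow f n)

lemma exact_pow (M : X.Modules) (n : ℕ) : (ShortComplex.mk _ _ (smulMod_π f M n)).Exact :=
  ShortComplex.exact_of_g_is_cokernel _ (CokernelCofork.IsColimit.ofπ' _ _ fun {T} g hg =>
    ⟨cokernel.desc _ g (smulFamily_comp_of_gen f g n hg), cokernel.π_desc _ _ _⟩)

lemma smulMod_one (M : X.Modules) : Formal.smulMod A M (1 : A) = 𝟙 M := by
  refine Scheme.Modules.hom_ext _ _ fun U => ConcreteCategory.hom_ext _ _ fun x => ?_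
  exact one_smul A (FormalLib.toSec A M U x)

lemma smulMod_pow_succ (M : X.Modules) (n : ℕ) : Formal.smulMod A M (f ^ (n + 1)) = Formal.smulMod A M f ≫ Formal.smulMod A M (f ^ n) := by
  rw [pow_succ]; exact smulMod_mul M (f ^ n) f

lemma smulMod_pow_succ' (M : X.Modules) (n : ℕ) : Formal.smulMod A M (f ^ (n + 1)) = Formal.smulMod A M (f ^ n) ≫ Formal.smulMod A M f := by
  rw [pow_succ']; exact smulMod_mul M f (f ^ n)

lemma mono_pow {F : X.Modules} (hF : Mono (Formal.smulMod A F f)) (n : ℕ) : Mono (Formal.smulMod A F (f ^ n)) := by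
  induction n with
  | zero => rw [pow_zero, smulMod_one]; infer_instance
  | succ n ih => rw [smulMod_pow_succ]; exact mono_comp _ _

/-- `(4) ⇒ (2)`. -/
theorem four_imp_two (F : X.Modules) (hF : Mono (Formal.smulMod A F f)) (n : ℕ) :
    ∃ i : Formal.modPow (pid f) 1 F ⟶ Formal.modPow (pid f) (n + 1) F, Mono i ∧
      Formal2.modPowLE (pid f) (Nat.le_add_left 1 n) F ≫ i = Formal.smulMod A (Formal.modPow (pid f) (n + 1) F) (f ^ n) ∧
      ∃ w : i ≫ Formal.modPowTrans (pid f) n F = 0,
        (ShortComplex.mk i (Formal.modPowTrans (pid f) n F) w).ShortExact := by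
  have := mono_pow f hF n
  let i : Formal.modPow (pid f) 1 F ⟶ Formal.modPow (pid f) (n + 1) F :=
    cokernel.desc _ (Formal.smulMod A F (f ^ n) ≫ Formal.modPowπ (pid f) (n + 1) F) (smulFamily_comp_of_gen f _ 1 (by
      rw [pow_one, ← Category.assoc, ← smulMod_pow_succ]; exact smulMod_π f F (n + 1)))
  have hi : Formal.modPowπ (pid f) 1 F ≫ i = Formal.smulMod A F (f ^ n) ≫ Formal.modPowπ (pid f) (n + 1) F := cokernel.π_desc _ _ _
  have ht : Formal.modPowπ (pid f) (n + 1) F ≫ Formal.modPowTrans (pid f) n F = Formal.modPowπ (pid f) n F :=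
    Formal.modPowπ_trans _ _ _
  haveI hm : Mono i := by
    refine Preadditive.mono_of_cancel_zero _ fun {T} x hx => ?_
    obtain ⟨T', q, hq, x', hx'⟩ := surjective_up_to_refinements_of_epi (Formal.modPowπ (pid f) 1 F) x
    have h0 : (x' ≫ Formal.smulMod A F (f ^ n)) ≫ Formal.modPowπ (pid f) (n + 1) F = 0 := by
      rw [Category.assoc, ← hi, ← Category.assoc, ← hx', Category.assoc, hx, comp_zero]
    obtain ⟨T'', q', hq', z, hz⟩ := (exact_pow f F (n + 1)).exact_up_to_refinements (x' ≫ Formal.smulMod A F (f ^ n)) h0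
    have hz' : q' ≫ x' = z ≫ Formal.smulMod A F f := by
      rw [← cancel_mono (Formal.smulMod A F (f ^ n)), Category.assoc, Category.assoc, ← smulMod_pow_succ]
      exact hz
    rw [← cancel_epi q, ← cancel_epi q', comp_zero, comp_zero, hx', ← Category.assoc, hz', Category.assoc]
    have h1 : Formal.smulMod A F f ≫ Formal.modPowπ (pid f) 1 F = 0 := by
      simpa only [pow_one] using smulMod_π f F 1
    rw [h1, comp_zero]
  have w : i ≫ Formal.modPowTrans (pid f) n F = 0 := by
    rw [← cancel_epi (Formal.modPowπ (pid f) 1 F), ← Category.assoc, hi, Category.assoc, ht, smulMod_π, comp_zero]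
  refine ⟨i, hm, ?_, w, ShortComplex.ShortExact.mk' ?_ hm ?_⟩
  · rw [← cancel_epi (Formal.modPowπ (pid f) (n + 1) F), ← Category.assoc, Formal2.modPowπ_modPowLE, hi]
    exact smulMod_natural _ _
  · rw [ShortComplex.exact_iff_exact_up_to_refinements]
    intro T y hy
    obtain ⟨T', q, hq, y', hy'⟩ := surjective_up_to_refinements_of_epi (Formal.modPowπ (pid f) (n + 1) F) y
    have h0 : y' ≫ Formal.modPowπ (pid f) n F = 0 := by
      rw [← ht, ← Category.assoc, ← hy', Category.assoc]
      exact (congrArg (q ≫ ·) hy).trans comp_zero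
    obtain ⟨T'', q', hq', z, hz⟩ := (exact_pow f F n).exact_up_to_refinements y' h0
    refine ⟨T'', q' ≫ q, epi_comp _ _, z ≫ Formal.modPowπ (pid f) 1 F, ?_⟩
    rw [Category.assoc, hy', ← Category.assoc, hz, Category.assoc, Category.assoc]
    exact congrArg (z ≫ ·) hi.symm
  · have : Epi (Formal.modPowπ (pid f) (n + 1) F ≫ Formal.modPowTrans (pid f) n F) := by rw [ht]; infer_instance
    exact epi_of_epi (Formal.modPowπ (pid f) (n + 1) F) _

section System

open FormalLimVanishLib (tr exists_limit_section limit_section_ext)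

variable {f} (G : ℕᵒᵖ ⥤ X.Modules)

/-- The hypothesis (1). -/
def Cond1 (f : A) : Prop := ∀ n : ℕ, ∃ i : G.obj (op n) ⟶ G.obj (op (n + 1)), Mono i ∧
  G.map (homOfLE (Nat.le_succ n)).op ≫ i = Formal.smulMod A (G.obj (op (n + 1))) f ∧
    ∃ w : i ≫ G.map (homOfLE (Nat.zero_le (n + 1))).op = 0,
      (ShortComplex.mk i (G.map (homOfLE (Nat.zero_le (n + 1))).op) w).ShortExact

/-- The map to the first term. -/
abbrev toZero (n : ℕ) : G.obj (op n) ⟶ G.obj (op 0) := G.map (homOfLE (Nat.zero_le n)).op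

lemma tr_toZero (n : ℕ) : tr G n ≫ toZero G n = toZero G (n + 1) := by
  rw [← G.map_comp]; rfl

variable {G}
variable {i : ∀ n, G.obj (op n) ⟶ G.obj (op (n + 1))}
  (hi : ∀ n, tr G n ≫ i n = Formal.smulMod A (G.obj (op (n + 1))) f)
  {hw : ∀ n, i n ≫ toZero G (n + 1) = 0} (hS : ∀ n, (ShortComplex.mk _ _ (hw n)).ShortExact)

include hi hS

lemma i_tr (n : ℕ) : i (n + 1) ≫ tr G (n + 1) = tr G n ≫ i n := by
  haveI : Mono (i (n + 1)) := (hS (n + 1)).mono_f
  rw [← cancel_mono (i (n + 1)), Category.assoc, hi (n + 1), ← smulMod_natural, ← hi n]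

lemma epi_tr (n : ℕ) : Epi (tr G n) := by
  induction n with
  | zero =>
    haveI : Epi (toZero G 1) := (hS 0).epi_g
    exact ‹Epi (toZero G 1)›
  | succ n ih =>
    haveI : Epi (toZero G (n + 2)) := (hS (n + 1)).epi_g
    rw [epi_iff_surjective_up_to_refinements]
    intro T y
    obtain ⟨T', q, hq, x, hx⟩ := surjective_up_to_refinements_of_epi (toZero G (n + 2)) (y ≫ toZero G (n + 1))
    obtain ⟨T₁, q₁, hq₁, z, hz⟩ := (hS n).exact.exact_up_to_refinements (q ≫ y - x ≫ tr G (n + 1)) (by
      change (q ≫ y - x ≫ tr G (n + 1)) ≫ toZero G (n + 1) = 0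
      rw [Preadditive.sub_comp, Category.assoc, Category.assoc, tr_toZero, hx, sub_self])
    obtain ⟨T₂, q₂, hq₂, v, hv⟩ := surjective_up_to_refinements_of_epi (tr G n) z
    refine ⟨T₂, q₂ ≫ q₁ ≫ q, inferInstance, q₂ ≫ q₁ ≫ x + v ≫ i (n + 1), ?_⟩
    have hz' : q₁ ≫ q ≫ y - q₁ ≫ x ≫ tr G (n + 1) = z ≫ i n := by
      rw [← Preadditive.comp_sub]; exact hz
    rw [Preadditive.add_comp, Category.assoc v, i_tr hi hS, ← Category.assoc v, ← hv, Category.assoc q₂ z, ← hz']
    simp

lemma smul_zero_eq : Formal.smulMod A (G.obj (op 0)) f = 0 := by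
  haveI := epi_tr hi hS 0
  rw [← cancel_epi (tr G 0), comp_zero, ← smulMod_natural, ← hi 0, Category.assoc]
  exact (congrArg (tr G 0 ≫ ·) (hw 0)).trans comp_zero

lemma killed : ∀ n, Formal.smulMod A (G.obj (op n)) (f ^ (n + 1)) = 0
  | 0 => by rw [zero_add, pow_one]; exact smul_zero_eq hi hS
  | n + 1 => by
    rw [smulMod_pow_succ, ← hi, Category.assoc, ← smulMod_natural, killed n, zero_comp, comp_zero]

lemma π_tr (n : ℕ) : limit.π G (op (n + 1)) ≫ tr G n = limit.π G (op n) := limit.w G _

lemma π_smul (n : ℕ) : Formal.smulMod A (limit G) f ≫ limit.π G (op (n + 1)) = limit.π G (op n) ≫ i n := by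
  rw [smulMod_natural, ← hi, ← Category.assoc, π_tr hi hS]

lemma π_smul_app {V : X.Opens} (y : Γ(limit G, V)) (n : ℕ) :
    (limit.π G (op (n + 1))).app V ((Formal.smulMod A (limit G) f).app V y) = (i n).app V ((limit.π G (op n)).app V y) :=
  congrArg (fun φ => φ.app V y) (π_smul hi hS n)

lemma mono_smul : Mono (Formal.smulMod A (limit G) f) := by
  refine Preadditive.mono_of_cancel_zero _ fun {T} g hg => Scheme.Modules.hom_ext _ _ fun V =>
    ConcreteCategory.hom_ext _ _ fun s => limit_section_ext G V _ _ fun n => ?_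
  haveI : Mono (i n) := (hS n).mono_f
  apply QCohLib.app_injective_of_mono (i n) V
  refine (π_smul_app hi hS _ n).symm.trans ?_
  have h0 : (Formal.smulMod A (limit G) f).app V (g.app V s) = 0 :=
    congrArg (fun φ => φ.app V s) hg
  rw [h0, map_zero]
  change 0 = (i n).app V ((limit.π G (op n)).app V 0)
  rw [map_zero, map_zero]

lemma exists_smul_eq {V : X.Opens} : ∀ (n : ℕ) (x : Γ(limit G, V)), (limit.π G (op n)).app V x = 0 →
    ∃ z, (Formal.smulMod A (limit G) (f ^ (n + 1))).app V z = x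
  | 0, x, hx => by
    have hm : ∀ m, ∃ y, (i m).app V y = (limit.π G (op (m + 1))).app V x := fun m =>
      QCohLib.exists_of_app_eq_zero (hS m).exact (hS m).mono_f _ (by
        have e : limit.π G (op (m + 1)) ≫ toZero G (m + 1) = limit.π G (op 0) := limit.w G _
        exact (congrArg (fun φ => φ.app V x) e).trans hx)
    choose y hy using hm
    have hc : ∀ m, (tr G m).app V (y (m + 1)) = y m := fun m => by
      haveI : Mono (i m) := (hS m).mono_f
      apply QCohLib.app_injective_of_mono (i m) V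
      refine (congrArg (fun φ => φ.app V (y (m + 1))) (i_tr hi hS m)).symm.trans ?_
      refine (congrArg ((tr G (m + 1)).app V) (hy (m + 1))).trans ?_
      exact (congrArg (fun φ => φ.app V x) (π_tr hi hS (m + 1))).trans (hy m).symm
    obtain ⟨z, hz⟩ := exists_limit_section G V y hc
    refine ⟨z, limit_section_ext G V _ _ fun m => ?_⟩
    cases m with
    | zero =>
      have e : Formal.smulMod A (limit G) (f ^ (0 + 1)) ≫ limit.π G (op 0) = 0 := by
        rw [zero_add, pow_one, smulMod_natural, smul_zero_eq hi hS, comp_zero]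
      exact (congrArg (fun φ => φ.app V z) e).trans hx.symm
    | succ m =>
      rw [zero_add, pow_one, π_smul_app hi hS, hz]
      exact hy m
  | n + 1, x, hx => by
    have h0 : (limit.π G (op 0)).app V x = 0 := by
      have e : limit.π G (op (n + 1)) ≫ toZero G (n + 1) = limit.π G (op 0) := limit.w G _
      refine (congrArg (fun φ => φ.app V x) e).symm.trans ?_
      exact (congrArg ((toZero G (n + 1)).app V) hx).trans (map_zero _)
    obtain ⟨y, hy⟩ := exists_smul_eq 0 x h0
    rw [zero_add, pow_one] at hy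
    have hy0 : (limit.π G (op n)).app V y = 0 := by
      haveI : Mono (i n) := (hS n).mono_f
      apply QCohLib.app_injective_of_mono (i n) V
      rw [← π_smul_app hi hS, hy, hx, map_zero]
    obtain ⟨z, hz⟩ := exists_smul_eq n y hy0
    refine ⟨z, ?_⟩
    rw [smulMod_pow_succ' f _ (n + 1)]
    exact (congrArg ((Formal.smulMod A (limit G) f).app V) hz).trans hy

lemma epi_π (hqc : ∀ n : ℕᵒᵖ, Coh.IsQCoh (G.obj n)) (n : ℕ) : Epi (limit.π G (op n)) := by
  refine QCohLib.epi_of_surjective_on_affines _ fun V s p hp => ?_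
  obtain ⟨W, hW, hpW, hWV⟩ := Opens.isBasis_iff_nbhd.mp X.isBasis_affineOpens hp
  have hsurj : ∀ m, Function.Surjective ((tr G m).app W) := fun m => by
    haveI := epi_tr hi hS m
    haveI := hqc (op m)
    haveI := hqc (op (m + 1))
    exact FormalLib.app_surjective_of_epi (G.obj (op (m + 1))) (tr G m) hW
  choose r hr using hsurj
  let s₀ : Γ(G.obj (op n), W) := (G.obj (op n)).presheaf.map (homOfLE hWV).op s
  let v : ∀ k, Γ(G.obj (op (n + k)), W) := fun k => Nat.rec s₀ (fun k a => r (n + k) a) k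
  have hv : ∀ k (h : n ≤ n + k), (G.map (homOfLE h).op).app W (v k) = s₀ := by
    intro k
    induction k with
    | zero =>
      intro h
      exact congrArg (fun φ => φ.app W s₀) (G.map_id (op n))
    | succ k ih =>
      intro h
      have e : G.map (homOfLE h).op = tr G (n + k) ≫ G.map (homOfLE (Nat.le_add_right n k)).op := by
        rw [← G.map_comp]; rfl
      refine (congrArg (fun φ => φ.app W (v (k + 1))) e).trans ?_
      exact (congrArg ((G.map (homOfLE (Nat.le_add_right n k)).op).app W) (hr (n + k) (v k))).trans (ih _)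
  let w : ∀ m, Γ(G.obj (op m), W) := fun m => (G.map (homOfLE (Nat.le_add_left m n)).op).app W (v m)
  have hw' : ∀ m, (tr G m).app W (w (m + 1)) = w m := fun m => by
    have e : G.map (homOfLE (Nat.le_add_left (m + 1) n)).op ≫ tr G m =
        tr G (n + m) ≫ G.map (homOfLE (Nat.le_add_left m n)).op := by
      rw [← G.map_comp, ← G.map_comp]; rfl
    refine (congrArg (fun φ => φ.app W (v (m + 1))) e).trans ?_
    exact congrArg ((G.map (homOfLE (Nat.le_add_left m n)).op).app W) (hr (n + m) (v m))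
  obtain ⟨t, ht⟩ := exists_limit_section G W w hw'
  exact ⟨W, hWV, hpW, t, (ht n).trans (hv n _)⟩

lemma nonempty_completion_iso (hqc : ∀ n : ℕᵒᵖ, Coh.IsQCoh (G.obj n)) :
    Nonempty (Formal.completion (pid f) (limit G) ≅ G) := by
  let P := limit G
  have hw0 : ∀ n, Formal.smulMod A P (f ^ (n + 1)) ≫ limit.π G (op n) = 0 := fun n => by
    rw [smulMod_natural, killed hi hS n, comp_zero]
  let θ : ∀ n, Formal.modPow (pid f) (n + 1) P ⟶ G.obj (op n) := fun n =>
    cokernel.desc _ (limit.π G (op n)) (smulFamily_comp_of_gen f _ (n + 1) (hw0 n))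
  have hθ : ∀ n, Formal.modPowπ (pid f) (n + 1) P ≫ θ n = limit.π G (op n) := fun n => cokernel.π_desc _ _ _
  let η : Formal.completion (pid f) P ⟶ G := NatTrans.ofOpSequence θ fun n => by
    have key : Formal.modPowTrans (pid f) (n + 1) P ≫ θ n = θ (n + 1) ≫ tr G n := by
      rw [← cancel_epi (Formal.modPowπ (pid f) (n + 1 + 1) P), ← Category.assoc, ← Category.assoc,
        Formal.modPowπ_trans, hθ, hθ]
      exact (π_tr hi hS n).symm
    have e : (Formal.completion (pid f) P).map (homOfLE (Nat.le_succ n)).op = Formal.modPowTrans (pid f) (n + 1) P :=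
      Functor.ofOpSequence_map_homOfLE_succ _ n
    exact (congrArg (· ≫ θ n) e).trans key
  haveI : ∀ n, IsIso (η.app n) := fun ⟨n⟩ => by
    haveI := epi_π hi hS hqc n
    let S := ShortComplex.mk _ _ (hw0 n)
    haveI : Epi S.g := ‹Epi (limit.π G (op n))›
    haveI : Mono (Formal.smulMod A P f) := mono_smul hi hS
    haveI : Mono S.f := mono_pow f ‹_› (n + 1)
    have hex : S.Exact := by
      rw [S.exact_iff_epi_kernel_lift]
      refine QCohLib.epi_of_surjective_on_affines _ fun V s p hp => ⟨V, le_rfl, hp, ?_⟩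
      obtain ⟨z, hz⟩ := exists_smul_eq hi hS n ((kernel.ι S.g).app V s)
        ((congrArg (fun φ => φ.app V s) (kernel.condition S.g)).trans rfl)
      refine ⟨z, QCohLib.app_injective_of_mono (kernel.ι S.g) V ?_⟩
      refine (congrArg (fun φ => φ.app V z) (kernel.lift_ι S.g S.f S.zero)).trans (hz.trans ?_)
      refine congrArg ((kernel.ι S.g).app V) ?_
      exact (congrArg (fun φ => φ s) ((kernel S.g).presheaf.map_id (op V))).symm
    have hπ0 : S.f ≫ Formal.modPowπ (pid f) (n + 1) P = 0 := smulMod_π f P (n + 1)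
    change IsIso (θ n)
    refine ⟨hex.desc (Formal.modPowπ (pid f) (n + 1) P) hπ0, ?_, ?_⟩
    · rw [← cancel_epi (Formal.modPowπ (pid f) (n + 1) P), ← Category.assoc, hθ, Category.comp_id]
      exact hex.g_desc _ _
    · rw [← cancel_epi S.g, ← Category.assoc, hex.g_desc, Category.comp_id]
      exact hθ n
  haveI : IsIso η := NatIso.isIso_of_isIso_app η
  exact ⟨asIso η⟩

omit hi hS in
theorem one_imp_four (hqc : ∀ n : ℕᵒᵖ, Coh.IsQCoh (G.obj n)) (h1 : Cond1 G f) :
    ∃ F : X.Modules, Mono (Formal.smulMod A F f) ∧ Nonempty (Formal.completion (pid f) F ≅ G) := by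
  choose i hm hi hw hS using h1
  exact ⟨limit G, mono_smul hi hS, nonempty_completion_iso hi hS hqc⟩

end System

end FormalPrincLib
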